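import Groth.Agent.FlatMor67.AmpleFamily
import Groth.Agent.Amp73.Avoid
import Mathlib.AlgebraicGeometry.ValuativeCriterion

/-!
A scheme with an ample invertible module is separated; a scheme covered by affine loci of sections of
invertible modules has affine diagonal.
-/

set_option autoImplicit false
universe u

open CategoryTheory CategoryTheory.Limits AlgebraicGeometry TopologicalSpace

namespace Groth.Agent.Ample57

variable {X : Scheme.{u}}

theorem isAffineHom_diagonal_of_genLocus_cover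
    (h : ∀ x : X, ∃ (L : X.Modules) (s : Coh.structureModule X ⟶ L), PicF.IsInvertible L ∧
      x ∈ CohB1.genLocus L s ∧ IsAffineOpen (CohB1.genLocus L s)) :
    IsAffineHom (pullback.diagonal (terminal.from X)) := by
  refine isAffineHom_diagonal_iff.mpr fun U _ V₁ _ V₂ _ h₁ h₂ => ?_
  have : IsAffineHom V₁.ι := isAffineHom_of_forall_exists_isAffineOpen _ fun x => by
    obtain ⟨L, s, hL, hx, hs⟩ := h x
    refine ⟨CohB1.genLocus L s, hx, hs, ?_⟩
    rw [← Scheme.Hom.isAffineOpen_iff_of_isOpenImmersion V₁.ι, Scheme.Hom.image_preimage_eq_opensRange_inf,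
      Scheme.Opens.opensRange_ι, inf_comm]
    exact Amp73.isAffineOpen_genLocus_inf hL s h₁
  have h3 := h₂.preimage V₁.ι
  rwa [← Scheme.Hom.isAffineOpen_iff_of_isOpenImmersion V₁.ι, Scheme.Hom.image_preimage_eq_opensRange_inf,
    Scheme.Opens.opensRange_ι] at h3

/-- A scheme in which any two points lie in a common affine open, and which is quasi-separated, is
separated. -/
theorem isSeparated_of_common_affine [QuasiSeparatedSpace X]
    (h : ∀ x y : X, ∃ U : X.Opens, x ∈ U ∧ y ∈ U ∧ IsAffineOpen U) : X.IsSeparated := by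
  have : QuasiSeparated (terminal.from X) := (quasiSeparated_iff_quasiSeparatedSpace _).mpr inferInstance
  refine ⟨IsSeparated.of_valuativeCriterion _ fun S => ⟨fun l₁ l₂ => ?_⟩⟩
  obtain ⟨U, h₁, h₂, hU⟩ := h (l₁.l (IsLocalRing.closedPoint S.R)) (l₂.l (IsLocalRing.closedPoint S.R))
  have hr : ∀ l : Spec (.of S.R) ⟶ X, l (IsLocalRing.closedPoint S.R) ∈ U → Set.range l ⊆ Set.range U.ι := by
    rintro l hl _ ⟨z, rfl⟩
    rw [Scheme.Opens.range_ι]
    exact ((IsLocalRing.specializes_closedPoint z).map l.continuous).mem_open U.isOpen hl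
  let m₁ := IsOpenImmersion.lift U.ι l₁.l (hr _ h₁)
  let m₂ := IsOpenImmersion.lift U.ι l₂.l (hr _ h₂)
  let φ : CommRingCat.of S.R ⟶ CommRingCat.of S.K := CommRingCat.ofHom (algebraMap S.R S.K)
  have hm : Spec.map φ ≫ m₁ = Spec.map φ ≫ m₂ := by
    rw [← cancel_mono U.ι, Category.assoc, Category.assoc, IsOpenImmersion.lift_fac, IsOpenImmersion.lift_fac,
      l₁.fac_left, l₂.fac_left]
  obtain ⟨a₁, ha₁⟩ := Spec.map_surjective (m₁ ≫ hU.isoSpec.hom)
  obtain ⟨a₂, ha₂⟩ := Spec.map_surjective (m₂ ≫ hU.isoSpec.hom)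
  have ha : a₁ = a₂ := by
    have h3 : a₁ ≫ φ = a₂ ≫ φ := Spec.map_injective (by
      rw [Spec.map_comp, Spec.map_comp, ha₁, ha₂, reassoc_of% hm])
    ext r
    exact IsFractionRing.injective S.R S.K (congr($h3 r))
  have he : m₁ = m₂ := (cancel_mono hU.isoSpec.hom).mp (by rw [← ha₁, ← ha₂, ha])
  refine CommSq.LiftStruct.ext ?_
  rw [← IsOpenImmersion.lift_fac U.ι l₁.l (hr _ h₁), ← IsOpenImmersion.lift_fac U.ι l₂.l (hr _ h₂)]
  exact congrArg (fun m => m ≫ U.ι) he

theorem isSeparated_of_isAmple {L : X.Modules} (h : CohB1.IsAmple L) : X.IsSeparated := by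
  have := Amp73.quasiSeparatedSpace_of_isAmple h
  refine isSeparated_of_common_affine fun x y => ?_
  obtain ⟨G, -, hG, -, hGa⟩ := Amp73.exists_affine_genSet_of_finite h (Set.toFinite {x, y}) (U := ⊤) (fun _ _ => trivial)
  exact ⟨G, hG (Or.inl rfl), hG (Or.inr rfl), hGa⟩

theorem isSeparated_of_isRelAmple {S : Scheme.{u}} {f : X ⟶ S} {L : X.Modules}
    (hL : RelAmple.IsRelAmple f L) : IsSeparated f := by
  refine (IsZariskiLocalAtTarget.iff_of_iSup_eq_top (P := @IsSeparated)
    (fun U : S.affineOpens => U.1) (iSup_affineOpens_eq_top S)).mpr fun U => ?_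
  have := (isSeparated_of_isAmple (hL.2 U)).isSeparated_terminal_from
  have : IsSeparated (f ∣_ U.1 ≫ terminal.from _) := by rwa [terminal.comp_from]
  exact IsSeparated.of_comp (f ∣_ U.1) (terminal.from _)

end Groth.Agent.Ample57
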