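import Groth.Agent.Amp73.Avoid
import Groth.Agent.Amp73.QA
import Groth.Agent.Amp73.GlobGen

/-!
Sections of invertible modules on quasi-affine schemes with affine loci containing given finite sets;
ampleness and bases.
-/

set_option autoImplicit false
universe u

open CategoryTheory CategoryTheory.Limits AlgebraicGeometry Opposite TopologicalSpace

noncomputable section

namespace Groth.Agent.Ample57

open Amp73 Var76.LineBundle Var76.ZeroScheme

variable {X : Scheme.{u}} {L : X.Modules}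

theorem genLocus_smul (hL : PicF.IsInvertible L) (f : Γ(X, ⊤)) (t : Γ(L, ⊤)) :
    CohB1.genLocus L (Var76.Frames.ofSection L (f • t)) =
      CohB1.genLocus L (Var76.Frames.ofSection L t) ⊓ X.basicOpen f := by
  ext x
  obtain ⟨W, hxW, -, e, he⟩ := Mero90.exists_affine_frame hL x ⊤ trivial
  obtain ⟨c, hc⟩ := exists_coord (Var76.Frames.ofSection L t) he
  have hfc : (fres le_top f * c) • e = val L (Var76.Frames.ofSection L (f • t)) W.1 := by
    rw [mul_smul, hc, Var76.Frames.val_ofSection, Var76.Frames.val_ofSection, res_smul]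
  have h1 := genLocus_inf_eq_basicOpen _ he hfc
  have h2 := genLocus_inf_eq_basicOpen _ he hc
  rw [Scheme.basicOpen_mul] at h1
  constructor
  · intro hx
    have h3 : x ∈ X.basicOpen (fres le_top f) ⊓ X.basicOpen c := h1.le ⟨hx, hxW⟩
    refine ⟨(h2.ge h3.2).1, ?_⟩
    have h4 := h3.1
    rw [show X.basicOpen (fres (le_top : W.1 ≤ ⊤) f) = W.1 ⊓ X.basicOpen f from X.basicOpen_res f _] at h4
    exact h4.2
  · rintro ⟨hx, hxf⟩
    refine (h1.ge ⟨?_, h2.le ⟨hx, hxW⟩⟩).1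
    rw [show X.basicOpen (fres (le_top : W.1 ≤ ⊤) f) = W.1 ⊓ X.basicOpen f from X.basicOpen_res f _]
    exact ⟨hxW, hxf⟩

theorem exists_affine_genLocus_of_finite [X.IsQuasiAffine] (hL : PicF.IsInvertible L) (W : X.Opens)
    {E : Set X} (hE : E.Finite) (hEW : E ⊆ W) :
    ∃ s : Coh.structureModule X ⟶ L, IsAffineOpen (CohB1.genLocus L s) ∧ E ⊆ CohB1.genLocus L s ∧
      CohB1.genLocus L s ≤ W := by
  classical
  let Z₀ : Set X := {z ∈ E | ∀ z' ∈ E, z ⤳ z' → z' ⤳ z}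
  have hdom : ∀ x ∈ E, ∃ z ∈ Z₀, x ⤳ z := by
    intro x hx
    obtain ⟨z, ⟨hz, hxz⟩, hmin⟩ := (hE.subset (fun z hz => hz.1 : {z ∈ E | x ⤳ z} ⊆ E)).exists_minimalFor
      (fun z => closure ({z} : Set X)) _ ⟨x, hx, specializes_refl x⟩
    refine ⟨z, ⟨hz, fun z' hz' hzz' => ?_⟩, hxz⟩
    exact specializes_iff_closure_subset.2 (hmin ⟨hz', hxz.trans hzz'⟩ (specializes_iff_closure_subset.1 hzz'))
  have hZ₀ : Z₀.Finite := hE.subset fun z hz => hz.1
  have := hZ₀.fintype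
  have hsec : ∀ z : Z₀, ∃ u : Γ(L, ⊤), z.1 ∈ CohB1.genLocus L (Var76.Frames.ofSection L u) ∧
      (∀ z' : Z₀, z' ≠ z → z'.1 ∉ CohB1.genLocus L (Var76.Frames.ofSection L u)) ∧
      CohB1.genLocus L (Var76.Frames.ofSection L u) ≤ W ∧
      IsAffineOpen (CohB1.genLocus L (Var76.Frames.ofSection L u)) := by
    intro z
    let C : Set X := ⋃ z' ∈ {z' : Z₀ | z' ≠ z}, closure {z'.1}
    have hC : IsClosed C := (Set.toFinite _).isClosed_biUnion fun _ _ => isClosed_closure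
    obtain ⟨U, hzU, hU, hspan⟩ := spanAt_of_isQuasiAffine (Mero90.isQCoh_of_isInvertible hL) z.1
    obtain ⟨t, ht⟩ := exists_genLocus_of_spanAt hL hU hspan hzU
    have hzC : z.1 ∈ (⟨Cᶜ, hC.isOpen_compl⟩ : X.Opens) ⊓ W ⊓ CohB1.genLocus L (Var76.Frames.ofSection L t) := by
      refine ⟨⟨fun hz => ?_, hEW z.2.1⟩, ht⟩
      obtain ⟨z', hne, hz'⟩ := Set.mem_iUnion₂.1 hz
      have h1 : z'.1 ⤳ z.1 := specializes_iff_mem_closure.2 hz'
      exact hne (Subtype.ext ((h1.antisymm (z'.2.2 z.1 z.2.1 h1)).eq))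
    obtain ⟨_, ⟨r, hr, rfl⟩, hzr, hle⟩ :=
      Opens.isBasis_iff_nbhd.1 (Scheme.IsQuasiAffine.isBasis_basicOpen X) hzC
    have heq : CohB1.genLocus L (Var76.Frames.ofSection L (r • t)) = X.basicOpen r := by
      rw [genLocus_smul hL, inf_eq_right]
      exact hle.trans inf_le_right
    refine ⟨r • t, heq.ge hzr, fun z' hne hz' => ?_, heq.le.trans (hle.trans (inf_le_left.trans inf_le_right)),
      by rw [heq]; exact hr⟩
    exact (hle (heq.le hz')).1.1 (Set.mem_iUnion₂.2 ⟨z', hne, subset_closure rfl⟩)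
  choose u hu hne hle ha using hsec
  let σ : Z₀ → (Coh.structureModule X ⟶ L) := fun z => Var76.Frames.ofSection L (u z)
  refine ⟨_, isAffineOpen_genLocus_sum hL σ ha, fun x hx => ?_, (genLocus_sum_le hL σ).trans (iSup_le hle)⟩
  obtain ⟨z, hz, hxz⟩ := hdom x hx
  exact hxz.mem_open (Opens.isOpen _)
    (mem_genLocus_sum hL σ (j := ⟨z, hz⟩) (hu _) fun i hi => hne i ⟨z, hz⟩ (Ne.symm hi))

theorem isAmple_iff_isBasis [CompactSpace X] (hL : PicF.IsInvertible L) :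
    CohB1.IsAmple L ↔
      TopologicalSpace.Opens.IsBasis
        {U : X.Opens | ∃ (n : ℕ) (s : Coh.structureModule X ⟶ CohB1.tensorPow L (n + 1)), U = CohB1.genLocus _ s} := by
  rw [Opens.isBasis_iff_nbhd]
  constructor
  · intro h U x hx
    obtain ⟨_, ⟨n, s, rfl⟩, hxG, hle, -⟩ := exists_affine_genSet_le h x U hx
    exact ⟨_, ⟨n, s, rfl⟩, hxG, hle⟩
  · intro h
    refine isAmple_iff.2 ⟨hL, inferInstance, fun x => ?_⟩
    obtain ⟨V, hV, hxV, -⟩ := exists_isAffineOpen_mem_and_subset (U := ⊤) (x := x) trivial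
    obtain ⟨_, ⟨n, s, rfl⟩, hxG, hle⟩ := h hxV
    refine ⟨_, ⟨n, s, rfl⟩, hxG, ?_⟩
    rw [← inf_eq_left.2 hle]
    exact isAffineOpen_inf_of_mem_genSet hL ⟨n, s, rfl⟩ hV

end Groth.Agent.Ample57
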